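import Cfsg.Agent.H451.EPX.R1Sz
import Cfsg.Agent.H470.EPO.R1Tr

/-!
# S5745, own characteristic, rank one: the Suzuki groups, final form (helper451)
-/

set_option autoImplicit false

namespace Cfsg.Agent.H451.EPX

open Cfsg.Agent.H470.EPO

/-- field `sz` of helper470's `R1All` -/
theorem r1_sz {T : Type*} [Group T] (h : Cfsg.Lie.IsoSuzuki T) : ∃ D : R1 2 T, D.Hyp := by
  obtain ⟨F, i1, i2, m, hm, hF, ⟨e⟩⟩ := h
  obtain ⟨e'⟩ := Cfsg.Agent.OddCyclic.ClaimC.SzIso.iso (F := F) hm hF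
  exact R1.exists_ofEquiv (e.trans e'.symm) ⟨r1 hm hF, hyp hm hF⟩

end Cfsg.Agent.H451.EPX
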