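import Cfsg.Agent.H470.EPO.R1
import Cfsg.Agent.S2251
import Cfsg.Agent.H98.SzPartition
import Cfsg.Agent.OddCyclic.ClaimC.SzIso
import Cfsg.Agent.H23.FreeAct

/-!
# S5745, own characteristic, rank one: the Suzuki groups (helper451)

`r1 hm hF : R1 2 (Cfsg.Sz F m)` and `hyp hm hF : (r1 hm hF).Hyp` for helper470's interface `H470/EPO/R1.lean`.
-/

set_option autoImplicit false
set_option linter.unusedSectionVars false

namespace Cfsg.Agent.H451.EPX

open scoped MatrixGroups Matrix Pointwise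
open Matrix MulAction
open Cfsg.Agent.LieExceptional
open Cfsg.Agent.LieExceptional.SuzukiBasic Cfsg.Agent.LieExceptional.SuzukiSylow
open Cfsg.Agent.LieExceptional.SuzukiCN Cfsg.Agent.H98.SzBasic Cfsg.Agent.H98.SzPartition
open Cfsg.Agent.H284 Cfsg.Agent.H470.EPO

variable {F : Type*} [Field F] [Fintype F] {m : ℕ}

/-- the stabiliser of infinity -/
def Bst (F : Type*) [Field F] (m : ℕ) : Subgroup (Cfsg.Sz F m) := MulAction.stabilizer (Cfsg.Sz F m) (inf F m)

theorem mem_Bst {g : Cfsg.Sz F m} : g ∈ Bst F m ↔ g • inf F m = inf F m := Iff.rfl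

theorem mem_cj_Bst (hF : Fintype.card F = 2 ^ (2 * m + 1)) {g : Cfsg.Sz F m} :
    g ∈ cj (w hF) (Bst F m) ↔ g • zer F m = zer F m := by
  rw [mem_cj, mem_Bst, w_inv, mul_smul, mul_smul, w_smul_inf]
  constructor
  · intro h
    have := congrArg (fun p => w hF • p) h
    simp only [smul_smul] at this
    rw [w_smul_inf, ← mul_assoc, w_mul_w, one_mul] at this
    exact this
  · intro h
    rw [h, w_smul_zer]

/-- the rank one data of the Suzuki group -/
noncomputable def r1 (hm : 1 ≤ m) (hF : Fintype.card F = 2 ^ (2 * m + 1)) : R1 2 (Cfsg.Sz F m) where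
  U := Q hF
  B := Bst F m
  w := w hF
  nU := by
    ext g
    rw [mem_Bst, ← smul_sylowQ_eq_iff hm hF, Sylow.smul_eq_iff_mem_normalizer]
    have hQ : ((sylowQ hm hF : Subgroup (Cfsg.Sz F m)) : Set (Cfsg.Sz F m)) = (Q hF : Set (Cfsg.Sz F m)) := by
      rw [coe_sylowQ hm hF]
    show g ∈ Subgroup.normalizer (Q hF : Set (Cfsg.Sz F m)) ↔
      g ∈ Subgroup.normalizer ((sylowQ hm hF : Subgroup (Cfsg.Sz F m)) : Set (Cfsg.Sz F m))
    rw [hQ]
  pU := isPGroup_Q hF
  mU := by
    intro S hS hp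
    have h := (sylowQ hm hF).is_maximal' hp (by rw [coe_sylowQ]; exact hS)
    rw [h, coe_sylowQ]
  wB := by
    intro h
    rw [mem_Bst, w_smul_inf] at h
    exact zer_ne_inf h
  ww := by
    rw [w_mul_w]
    exact Subgroup.one_mem _
  tr := by
    intro g hg
    rcases bruhat' hm hF g with ⟨a, b, k, rfl⟩ | ⟨a, b, k, c, d, rfl⟩
    · exfalso
      apply hg
      rw [mem_Bst, mul_smul, h_smul_inf, u_smul_inf]
    · refine ⟨u hF a b, ⟨a, b, rfl⟩, h hF k * u hF c d, ?_, by group⟩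
      rw [mem_Bst, mul_smul, u_smul_inf, h_smul_inf]
  ti := by
    rw [eq_bot_iff]
    rintro g ⟨⟨a, b, rfl⟩, h2⟩
    replace h2 := (mem_cj_Bst hF).1 h2
    by_contra h3
    have h4 : ¬ (a = 0 ∧ b = 0) := by
      rintro ⟨rfl, rfl⟩
      exact h3 (by rw [u_zero_zero]; exact Subgroup.one_mem _)
    exact zer_ne_inf (u_fix hF h4 h2)

section

variable (hm : 1 ≤ m) (hF : Fintype.card F = 2 ^ (2 * m + 1))

theorem r1_U : (r1 hm hF).U = Q hF := rfl
theorem r1_B : (r1 hm hF).B = Bst F m := rfl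
theorem r1_w : (r1 hm hF).w = w hF := rfl

theorem r1_T0 : (r1 hm hF).T0 = T hF := by
  ext g
  show g ∈ Bst F m ⊓ cj (w hF) (Bst F m) ↔ _
  rw [Subgroup.mem_inf, mem_cj_Bst, mem_Bst, mem_T_iff]
  constructor
  · rintro ⟨h1, h2⟩
    obtain ⟨k, hk⟩ := eq_h hm hF h1 h2
    exact ⟨k, hk.symm⟩
  · rintro ⟨k, rfl⟩
    exact ⟨h_smul_inf hF k, h_smul_zer hF k⟩

include hF in
theorem char_two : CharP F 2 := by
  obtain ⟨p, hp⟩ := CharP.exists F
  have hp' : p.Prime := CharP.char_is_prime F p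
  have h1 : p ∣ Fintype.card F := by
    have := FiniteField.card' F
    obtain ⟨n, hpr, hn⟩ := FiniteField.card F p
    rw [hn]
    exact dvd_pow_self _ n.pos.ne'
  rw [hF] at h1
  have := (Nat.prime_dvd_prime_iff_eq hp' Nat.prime_two).1 (hp'.dvd_of_dvd_pow h1)
  rwa [this] at hp

include hm hF in
theorem eight_le : 8 ≤ Fintype.card F := by
  rw [hF]
  calc 8 = 2 ^ 3 := by norm_num
    _ ≤ _ := Nat.pow_le_pow_right (by norm_num) (by omega)

include hm hF in
/-- an element `c ≠ 0, 1` with `c² + c + 1 ≠ 0` -/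
theorem exists_c : ∃ c : F, c ≠ 0 ∧ c ≠ 1 ∧ c ^ 2 + c + 1 ≠ 0 := by
  classical
  have := char_two hF
  by_contra hcon
  push Not at hcon
  have h8 := eight_le hm hF
  -- all elements other than 0, 1 are roots of X² + X + 1
  have h1 : (Finset.univ : Finset F).card ≤ 4 := by
    have h2 : (Finset.univ : Finset F) ⊆ {0, 1} ∪ ((Polynomial.X ^ 2 + Polynomial.X + 1 : Polynomial F).roots.toFinset) := by
      intro c _
      by_cases h3 : c = 0
      · simp [h3]
      by_cases h4 : c = 1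
      · simp [h4]
      rw [Finset.mem_union]
      right
      rw [Multiset.mem_toFinset, Polynomial.mem_roots]
      · simp only [Polynomial.IsRoot.def, Polynomial.eval_add, Polynomial.eval_pow, Polynomial.eval_X, Polynomial.eval_one]
        exact hcon c h3 h4
      · intro h5
        have := congrArg (fun f : Polynomial F => f.coeff 2) h5
        simp [Polynomial.coeff_X, Polynomial.coeff_one] at this
    calc (Finset.univ : Finset F).card ≤ _ := Finset.card_le_card h2
      _ ≤ ({0, 1} : Finset F).card + _ := Finset.card_union_le _ _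
      _ ≤ 2 + 2 := by
          apply add_le_add Finset.card_le_two
          refine (Multiset.toFinset_card_le _).trans ((Polynomial.card_roots' _).trans ?_)
          have : (Polynomial.X ^ 2 + Polynomial.X + 1 : Polynomial F) = Polynomial.C 1 * Polynomial.X ^ 2 + Polynomial.C 1 * Polynomial.X + Polynomial.C 1 := by
            simp
          rw [this]
          exact Polynomial.natDegree_quadratic_le
  rw [Finset.card_univ] at h1
  omega

theorem comm_h_u (k : Fˣ) (a b : F) : u hF a b * h hF k * (u hF a b)⁻¹ * (h hF k)⁻¹ =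
    u hF a b * u hF (k * a) ((k : F) ^ (2 ^ (m + 1) + 1) * (b + a ^ (2 ^ (m + 1) + 1))) := by
  rw [u_inv, mul_assoc (u hF a b), h_mul_u]
  group

theorem sigma_add [CharP F 2] (a b : F) (n : ℕ) : (a + b) ^ 2 ^ n = a ^ 2 ^ n + b ^ 2 ^ n := by
  have : Fact (Nat.Prime 2) := ⟨Nat.prime_two⟩
  exact add_pow_char_pow a b 2 n

theorem hyp_comm : ∀ X : Subgroup (Cfsg.Sz F m), X ≤ (r1 hm hF).U →
    (∀ u ∈ (r1 hm hF).U, ∀ t ∈ (r1 hm hF).T0, u * t * u⁻¹ * t⁻¹ ∈ X) → X = (r1 hm hF).U := by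
  intro X hX h
  have h2 := char_two hF
  have hh : ∀ (a b : F) (k : Fˣ), u hF a b * u hF (k * a) ((k : F) ^ (2 ^ (m + 1) + 1) * (b + a ^ (2 ^ (m + 1) + 1))) ∈ X := by
    intro a b k
    rw [← comm_h_u]
    apply h
    · exact ⟨a, b, rfl⟩
    · rw [r1_T0]; exact ⟨k, rfl⟩
  obtain ⟨c, hc0, hc1, -⟩ := exists_c hm hF
  obtain ⟨k, hk0, hk⟩ := exists_pow_sigma_add_one hF c hc0
  have hk1 : k ≠ 1 := by
    rintro rfl
    rw [one_pow] at hk
    exact hc1 hk.symm
  have hc1' : 1 + c ≠ 0 := by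
    intro h3
    apply hc1
    have := CharTwo.add_self_eq_zero (1 : F)
    linear_combination h3 - this
  have hk1' : 1 + k ≠ 0 := by
    intro h3
    apply hk1
    have := CharTwo.add_self_eq_zero (1 : F)
    linear_combination h3 - this
  have hz : ∀ b : F, u hF 0 b ∈ X := by
    intro b
    have h3 := hh 0 (b / (1 + c)) (Units.mk0 k hk0)
    rw [u_mul, Units.val_mk0, hk] at h3
    have e1 : (0 : F) + k * 0 = 0 := by ring
    have e2 : b / (1 + c) + c * (b / (1 + c) + 0 ^ (2 ^ (m + 1) + 1)) + 0 ^ 2 ^ (m + 1) * (k * 0) = b := by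
      rw [zero_pow (by positivity), zero_pow (by positivity)]
      field_simp
      ring
    rw [e1, e2] at h3
    exact h3
  apply le_antisymm hX
  rintro _ ⟨a, b, rfl⟩
  have h3 := hh (a / (1 + k)) 0 (Units.mk0 k hk0)
  rw [u_mul, Units.val_mk0] at h3
  set y : F := 0 + k ^ (2 ^ (m + 1) + 1) * (0 + (a / (1 + k)) ^ (2 ^ (m + 1) + 1)) + (a / (1 + k)) ^ 2 ^ (m + 1) * (k * (a / (1 + k))) with hy
  have e1 : a / (1 + k) + k * (a / (1 + k)) = a := by
    field_simp
  rw [e1] at h3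
  have h4 := X.mul_mem h3 (hz (b - y))
  rw [u_mul] at h4
  have e2 : a + 0 = a := add_zero a
  have e3 : y + (b - y) + a ^ 2 ^ (m + 1) * 0 = b := by ring
  rw [e2, e3] at h4
  exact h4

include hF in
theorem pow_sigma_inj {d : F} (h : d ^ (2 ^ (m + 1) + 1) = 1) : d = 1 := by
  have h0 : d ≠ 0 := by
    rintro rfl
    rw [zero_pow (by positivity)] at h
    exact zero_ne_one h
  have h1 : orderOf d ∣ 2 ^ (m + 1) + 1 := orderOf_dvd_of_pow_eq_one h
  have h2 : orderOf d ∣ 2 ^ (2 * m + 1) - 1 := by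
    apply orderOf_dvd_of_pow_eq_one
    rw [← hF]
    exact FiniteField.pow_card_sub_one_eq_one d h0
  have h3 : orderOf d ∣ 1 := by
    have e1 : (2 ^ (m + 1) - 1) * (2 ^ (m + 1) + 1) = 2 * (2 ^ (2 * m + 1) - 1) + 1 := by
      have h1 : 1 ≤ 2 ^ (m + 1) := Nat.one_le_two_pow
      have h2 : 1 ≤ 2 ^ (2 * m + 1) := Nat.one_le_two_pow
      have h3 : 2 ^ (m + 1) * 2 ^ (m + 1) = 2 * 2 ^ (2 * m + 1) := by
        rw [← pow_add, ← pow_succ']
        congr 1
        ring
      obtain ⟨s, hs⟩ := Nat.exists_eq_add_of_le h1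
      obtain ⟨t, ht⟩ := Nat.exists_eq_add_of_le h2
      rw [hs, ht] at h3
      rw [hs, ht]
      have h4 : 1 + s - 1 = s := by omega
      have h5 : 1 + t - 1 = t := by omega
      rw [h4, h5]
      nlinarith
    have e2 : orderOf d ∣ 2 * (2 ^ (2 * m + 1) - 1) + 1 := by
      rw [← e1]
      exact h1.mul_left _
    exact (Nat.dvd_add_right (h2.mul_left 2)).1 e2
  exact orderOf_eq_one_iff.1 (Nat.dvd_one.1 h3)

theorem hyp_p2 : ∀ φ : MulAut (r1 hm hF).U, (∀ t ∈ (r1 hm hF).T0, ∀ u v : (r1 hm hF).U,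
    (v : Cfsg.Sz F m) = t * u * t⁻¹ →
    ((φ v : (r1 hm hF).U) : Cfsg.Sz F m) = t * (φ u : (r1 hm hF).U) * t⁻¹) → ∀ n : ℕ, φ ^ 2 ^ n = 1 → φ = 1 := by
  intro φ hφ n hn
  have h2 := char_two hF
  change MulAut (Q hF) at φ
  have hT : ∀ (k : Fˣ) (a b : F), ((φ (qu hF (k * a) ((k : F) ^ (2 ^ (m + 1) + 1) * b)) : Q hF) : Cfsg.Sz F m) =
      h hF k * (φ (qu hF a b) : Q hF) * (h hF k)⁻¹ := by
    intro k a b
    apply hφ (h hF k) (by rw [r1_T0]; exact ⟨k, rfl⟩) (qu hF a b) (qu hF (k * a) ((k : F) ^ (2 ^ (m + 1) + 1) * b))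
    show u hF _ _ = h hF k * u hF a b * (h hF k)⁻¹
    rw [h_mul_u, mul_inv_cancel_right]
  have hT' : ∀ (k : Fˣ) (a b c d : F), φ (qu hF a b) = qu hF c d →
      φ (qu hF (k * a) ((k : F) ^ (2 ^ (m + 1) + 1) * b)) = qu hF (k * c) ((k : F) ^ (2 ^ (m + 1) + 1) * d) := by
    intro k a b c d h3
    apply Subtype.ext
    rw [hT, h3]
    show h hF k * u hF c d * (h hF k)⁻¹ = u hF _ _
    rw [h_mul_u, mul_inv_cancel_right]
  -- the centre
  have hcen : ∀ b : F, ∃ c : F, φ (qu hF 0 b) = qu hF 0 c := by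
    intro b
    have h3 : qu hF 0 b ∈ Subgroup.center (Q hF) := (mem_center_Q_iff hm hF _).2 ⟨b, rfl⟩
    have h4 : φ (qu hF 0 b) ∈ Subgroup.center (Q hF) := by
      rw [Subgroup.mem_center_iff] at h3 ⊢
      intro g
      have := congrArg φ (h3 (φ⁻¹ g))
      rw [map_mul, map_mul, MulAut.apply_inv_self] at this
      exact this
    exact (mem_center_Q_iff hm hF _).1 h4
  obtain ⟨c, hc⟩ := hcen 1
  have hcb : ∀ b : F, φ (qu hF 0 b) = qu hF 0 (c * b) := by
    intro b
    by_cases hb : b = 0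
    · rw [hb, mul_zero, qu_zero_zero, map_one]
    obtain ⟨k, hk0, hk⟩ := exists_pow_sigma_add_one hF b hb
    have h3 := hT' (Units.mk0 k hk0) 0 1 0 c hc
    rw [Units.val_mk0, hk, mul_zero, mul_one] at h3
    rw [h3, mul_comm]
  have hiter : ∀ (j : ℕ) (b : F), (φ ^ j) (qu hF 0 b) = qu hF 0 (c ^ j * b) := by
    intro j
    induction j with
    | zero => intro b; simp
    | succ j ih =>
      intro b
      rw [pow_succ, MulAut.mul_apply, hcb, ih]
      congr 1
      ring
  have hc1 : c = 1 := by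
    have h3 := hiter (2 ^ n) 1
    have hn' : (φ ^ 2 ^ n) (qu hF 0 1) = qu hF 0 1 := by
      have := congrArg (fun ψ : MulAut (Q hF) => ψ (qu hF 0 1)) hn
      exact this
    rw [hn', qu_eq_iff, mul_one] at h3
    have h4 : c ^ 2 ^ n = 1 ^ 2 ^ n := by rw [one_pow, ← h3.2]
    have : Fact (Nat.Prime 2) := ⟨Nat.prime_two⟩
    exact iterateFrobenius_inj F 2 n (by simpa [iterateFrobenius_def] using h4)
  rw [hc1] at hcb
  simp only [one_mul] at hcb
  obtain ⟨d, e, hde⟩ := exists_qu hF (φ (qu hF 1 0))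
  have hgen : ∀ (k : Fˣ) (b : F), φ (qu hF k b) = qu hF (k * d) ((k : F) ^ (2 ^ (m + 1) + 1) * e + b) := by
    intro k b
    have h3 := hT' k 1 0 d e hde
    rw [mul_one, mul_zero] at h3
    have h4 : qu hF (k : F) b = qu hF (k : F) 0 * qu hF 0 b := by
      rw [qu_mul, qu_eq_iff]
      exact ⟨by ring, by ring⟩
    rw [h4, map_mul, h3, hcb, qu_mul, qu_eq_iff]
    exact ⟨by ring, by ring⟩
  have hd : d = 1 := by
    have h3 := congrArg φ (qu_sq hF (1 : F) 0)
    rw [map_pow, hde, qu_sq, one_pow, hcb, qu_eq_iff] at h3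
    have h4 : d ^ (2 ^ (m + 1) + 1) = 1 := by
      rw [pow_succ, h3.2, one_mul]
    exact pow_sigma_inj hF h4
  rw [hd] at hgen
  simp only [mul_one] at hgen
  obtain ⟨l, hl⟩ := exists_sigma_ne (F := F) hm hF
  have hl0 : l ≠ 0 := by
    rintro rfl
    exact hl (zero_pow (by positivity))
  have hl1 : 1 + l ≠ 0 := by
    intro h3
    apply hl
    have h4 : l = 1 := by
      have := CharTwo.add_self_eq_zero (1 : F)
      linear_combination h3 - this
    rw [h4, one_pow]
  have he : e = 0 := by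
    have h3 : qu hF (1 : F) 0 * qu hF l 0 = qu hF (1 + l) l := by
      rw [qu_mul, qu_eq_iff]
      exact ⟨rfl, by ring⟩
    have h4 := congrArg φ h3
    have g1 := hgen 1 0
    have g2 := hgen (Units.mk0 l hl0) 0
    have g3 := hgen (Units.mk0 (1 + l) hl1) l
    rw [Units.val_one, one_pow] at g1
    rw [Units.val_mk0] at g2 g3
    rw [map_mul, g1, g2, g3, qu_mul, qu_eq_iff] at h4
    have h5 := h4.2
    have h6 : (1 + l) ^ (2 ^ (m + 1) + 1) = (1 + l ^ 2 ^ (m + 1)) * (1 + l) := by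
      rw [pow_succ, sigma_add, one_pow]
    have h7 : l ^ (2 ^ (m + 1) + 1) = l ^ 2 ^ (m + 1) * l := pow_succ _ _
    rw [h6, h7, one_pow] at h5
    have h8 : e * (l ^ 2 ^ (m + 1) + l) = 0 := by
      linear_combination -h5
    rcases mul_eq_zero.1 h8 with h9 | h9
    · exact h9
    · exfalso
      apply hl
      have := CharTwo.add_self_eq_zero l
      linear_combination h9 - this
  rw [he] at hgen
  simp only [mul_zero, zero_add] at hgen
  apply MulEquiv.ext
  intro g
  obtain ⟨a, b, hab⟩ := exists_qu hF g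
  show φ g = g
  rw [hab]
  by_cases ha : a = 0
  · rw [ha]; exact hcb b
  · exact hgen (Units.mk0 a ha) b

/-- the fixed points of a torus element -/
theorem fix_h {k : Fˣ} (hk : k ≠ 1) {p : Cfsg.suzukiOvoid F m} (hp : h hF k • p = p) :
    p = inf F m ∨ p = zer F m := by
  rcases point_cases p with e | ⟨x, y, rfl⟩
  · exact Or.inl e
  · right
    rw [h_smul_opt, opt_eq_iff] at hp
    have hk' : (k : F) ≠ 1 := fun e => hk (Units.ext e)
    have hx : x = 0 := by
      have h1 : ((k : F) - 1) * x = 0 := by linear_combination hp.1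
      rcases mul_eq_zero.1 h1 with h2 | h2
      · exact (hk' (sub_eq_zero.1 h2)).elim
      · exact h2
    have hy : y = 0 := by
      have h1 : ((k : F) ^ (2 ^ (m + 1) + 1) - 1) * y = 0 := by linear_combination hp.2
      rcases mul_eq_zero.1 h1 with h2 | h2
      · exact (hk' (pow_sigma_inj hF (sub_eq_zero.1 h2))).elim
      · exact h2
    rw [hx, hy, opt_zero_zero]

include hm hF in
theorem exists_k : ∃ k : Fˣ, k ≠ 1 := by
  obtain ⟨c, hc0, hc1, -⟩ := exists_c hm hF
  exact ⟨Units.mk0 c hc0, fun e => hc1 (congrArg Units.val e)⟩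

/-- a point whose Sylow subgroup is normalised by the torus -/
theorem point_of_T {y : Cfsg.Sz F m} (hT : ∀ k : Fˣ, h hF k • (y • sylowQ hm hF) = y • sylowQ hm hF) :
    y • inf F m = inf F m ∨ y • inf F m = zer F m := by
  obtain ⟨k, hk⟩ := exists_k hm hF
  apply fix_h hF hk
  have h1 := hT k
  have h2 : (y⁻¹ * h hF k * y) • sylowQ hm hF = sylowQ hm hF := by
    rw [mul_smul, mul_smul, h1, inv_smul_smul]
  rw [smul_sylowQ_eq_iff, mul_smul, mul_smul, inv_smul_eq_iff] at h2
  exact h2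

theorem smul_sylow_eq_of {y z : Cfsg.Sz F m} (e : y • inf F m = z • inf F m) :
    y • sylowQ hm hF = z • sylowQ hm hF := by
  have h1 : (z⁻¹ * y) • sylowQ hm hF = sylowQ hm hF := by
    rw [smul_sylowQ_eq_iff, mul_smul, e, inv_smul_smul]
  rw [mul_smul, inv_smul_eq_iff] at h1
  exact h1

theorem hyp_inv : ∀ φ : MulAut (Cfsg.Sz F m), (∀ t ∈ (r1 hm hF).T0, φ t = t) → ∀ b ∈ (r1 hm hF).B, φ b ∈ (r1 hm hF).B := by
  intro φ hφ
  have h2 := char_two hF
  have hfin := finite_ovoid F m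
  have : Fact (Nat.Prime 2) := ⟨Nat.prime_two⟩
  have hT : ∀ k : Fˣ, φ (h hF k) = h hF k := fun k => hφ _ (by rw [r1_T0]; exact ⟨k, rfl⟩)
  obtain ⟨y, hy⟩ := MulAction.exists_smul_eq (Cfsg.Sz F m) (sylowQ hm hF) (φ • sylowQ hm hF)
  have hmem : ∀ g : Cfsg.Sz F m, g ∈ Q hF → φ g ∈ ((y • sylowQ hm hF : Sylow 2 (Cfsg.Sz F m)) : Subgroup (Cfsg.Sz F m)) := by
    intro g hg
    rw [hy]
    show φ g ∈ φ • (sylowQ hm hF : Subgroup (Cfsg.Sz F m))
    rw [coe_sylowQ]
    exact Subgroup.smul_mem_pointwise_smul g φ (Q hF) hg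
  have hcompat : ∀ g : Cfsg.Sz F m, g • sylowQ hm hF = sylowQ hm hF → φ g • (y • sylowQ hm hF) = y • sylowQ hm hF := by
    intro g hg
    rw [Sylow.smul_eq_iff_mem_normalizer] at hg
    rw [hy, Sylow.smul_eq_iff_mem_normalizer]
    show φ g ∈ Subgroup.normalizer ((φ • (sylowQ hm hF : Subgroup (Cfsg.Sz F m)) : Subgroup (Cfsg.Sz F m)) : Set (Cfsg.Sz F m))
    have hg' : g ∈ Subgroup.normalizer ((sylowQ hm hF : Subgroup (Cfsg.Sz F m)) : Set (Cfsg.Sz F m)) := hg
    rw [Subgroup.mem_normalizer_iff]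
    intro x
    have h3 := Subgroup.mem_normalizer_iff.1 hg' (φ⁻¹ x)
    rw [Subgroup.mem_pointwise_smul_iff_inv_smul_mem, Subgroup.mem_pointwise_smul_iff_inv_smul_mem]
    have e1 : φ⁻¹ • x = φ⁻¹ x := rfl
    have e2 : φ⁻¹ • (φ g * x * (φ g)⁻¹) = g * φ⁻¹ x * g⁻¹ := by
      show φ⁻¹ (φ g * x * (φ g)⁻¹) = _
      rw [map_mul, map_mul, map_inv, MulAut.inv_apply_self]
    rw [e1, e2]
    exact h3
  have hTy : ∀ k : Fˣ, h hF k • (y • sylowQ hm hF) = y • sylowQ hm hF := by
    intro k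
    have := hcompat (h hF k) ((smul_sylowQ_eq_iff hm hF _).2 (h_smul_inf hF k))
    rwa [hT] at this
  rcases point_of_T hm hF hTy with hp | hp
  · intro b hb
    have h3 : y • sylowQ hm hF = sylowQ hm hF := (smul_sylowQ_eq_iff hm hF y).2 hp
    have h4 := hcompat b ((smul_sylowQ_eq_iff hm hF b).2 hb)
    rw [h3] at h4
    exact (smul_sylowQ_eq_iff hm hF _).1 h4
  · exfalso
    have h3 : y • sylowQ hm hF = w hF • sylowQ hm hF := smul_sylow_eq_of hm hF (by rw [hp, w_smul_inf])
    rw [h3] at hmem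
    have hz : ∀ b : F, ∃ d : F, φ (u hF 0 b) = w hF * u hF 0 d * (w hF)⁻¹ := by
      intro b
      have h4 := hmem (u hF 0 b) ⟨0, b, rfl⟩
      rw [mem_smul_sylowQ_iff] at h4
      obtain ⟨a', b', h5⟩ := h4
      have h6 : φ (u hF 0 b) = w hF * u hF a' b' * (w hF)⁻¹ := by rw [← h5]; group
      have h7 : φ (u hF 0 b) * φ (u hF 0 b) = 1 := by
        rw [← map_mul, u_mul]
        have e1 : (0 : F) + 0 = 0 := add_zero 0
        have e2 : b + b + 0 ^ 2 ^ (m + 1) * 0 = (0 : F) := by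
          rw [mul_zero, add_zero, CharTwo.add_self_eq_zero]
        rw [e1, e2, u_zero_zero, map_one]
      have h8 : u hF a' b' * u hF a' b' = 1 := by
        rw [h6] at h7
        have h9 : w hF * u hF a' b' * (w hF)⁻¹ * (w hF * u hF a' b' * (w hF)⁻¹) =
          w hF * (u hF a' b' * u hF a' b') * (w hF)⁻¹ := by group
        rw [h9] at h7
        exact conj_eq_one_iff.1 h7
      rw [u_mul, ← u_zero_zero hF, u_eq_iff] at h8
      have h9 : a' ^ 2 ^ (m + 1) * a' = 0 := by
        have := h8.2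
        rwa [CharTwo.add_self_eq_zero, zero_add] at this
      have h10 : a' = 0 := by
        rcases mul_eq_zero.1 h9 with h11 | h11
        · exact (pow_eq_zero_iff (by positivity)).1 h11
        · exact h11
      exact ⟨b', by rw [h6, h10]⟩
    have hinj : ∀ b d : F, w hF * u hF 0 b * (w hF)⁻¹ = w hF * u hF 0 d * (w hF)⁻¹ → b = d := by
      intro b d h4
      have h5 : u hF 0 b = u hF 0 d := by
        have := mul_right_cancel h4
        exact mul_left_cancel this
      exact ((u_eq_iff hF _ _ _ _).1 h5).2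
    obtain ⟨e, he⟩ := hz 1
    have he0 : e ≠ 0 := by
      rintro rfl
      rw [u_zero_zero, mul_one, mul_inv_cancel] at he
      have h4 := (map_eq_one_iff φ φ.injective).1 he
      rw [u_eq_one_iff] at h4
      exact one_ne_zero h4.2
    have hall : ∀ c : F, c ≠ 0 → φ (u hF 0 c) = w hF * u hF 0 (c⁻¹ * e) * (w hF)⁻¹ := by
      intro c hc
      obtain ⟨k, hk0, hk⟩ := exists_pow_sigma_add_one hF c hc
      set k' : Fˣ := Units.mk0 k hk0 with hk'
      have h4 : u hF 0 c = h hF k' * u hF 0 1 * (h hF k')⁻¹ := by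
        rw [h_mul_u, mul_inv_cancel_right, hk', Units.val_mk0, hk, mul_zero, mul_one]
      rw [h4, map_mul, map_mul, map_inv, hT, he]
      have h5 : h hF k' * (w hF * u hF 0 e * (w hF)⁻¹) * (h hF k')⁻¹ =
          w hF * (h hF k'⁻¹ * u hF 0 e * (h hF k'⁻¹)⁻¹) * (w hF)⁻¹ := by
        have h6 : h hF k' * w hF = w hF * h hF k'⁻¹ := by
          rw [w_mul_h, inv_inv]
        have h7 : (w hF)⁻¹ * (h hF k')⁻¹ = (h hF k'⁻¹)⁻¹ * (w hF)⁻¹ := by
          rw [← _root_.mul_inv_rev, h6, _root_.mul_inv_rev]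
        calc h hF k' * (w hF * u hF 0 e * (w hF)⁻¹) * (h hF k')⁻¹
            = (h hF k' * w hF) * u hF 0 e * ((w hF)⁻¹ * (h hF k')⁻¹) := by group
          _ = _ := by rw [h6, h7]; group
      rw [h5, h_mul_u, mul_inv_cancel_right]
      congr 3
      · ring
      · rw [Units.val_inv_eq_inv_val, hk', Units.val_mk0, inv_pow, hk]
    obtain ⟨c, hc0, hc1, hc2⟩ := exists_c hm hF
    have hc1' : 1 + c ≠ 0 := by
      intro h3
      apply hc1
      have := CharTwo.add_self_eq_zero (1 : F)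
      linear_combination h3 - this
    have h4 : u hF 0 1 * u hF 0 c = u hF 0 (1 + c) := by
      rw [u_mul, u_eq_iff]
      exact ⟨by ring, by ring⟩
    have h5 := congrArg φ h4
    rw [map_mul, he, hall c hc0, hall (1 + c) hc1'] at h5
    have h6 : w hF * u hF 0 e * (w hF)⁻¹ * (w hF * u hF 0 (c⁻¹ * e) * (w hF)⁻¹) =
        w hF * u hF 0 (e + c⁻¹ * e) * (w hF)⁻¹ := by
      have : u hF 0 (e + c⁻¹ * e) = u hF 0 e * u hF 0 (c⁻¹ * e) := by
        rw [u_mul, u_eq_iff]
        exact ⟨by ring, by ring⟩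
      rw [this]
      group
    rw [h6] at h5
    have h7 := hinj _ _ h5
    apply hc2
    have h8 : (e + c⁻¹ * e) * (c * (1 + c)) = (1 + c)⁻¹ * e * (c * (1 + c)) := by rw [h7]
    have h9 : (1 + c)⁻¹ * e * (c * (1 + c)) = e * c := by field_simp
    have h10 : (e + c⁻¹ * e) * (c * (1 + c)) = e * (1 + c) * (1 + c) := by field_simp; ring
    rw [h9, h10] at h8
    have h11 : e * (c ^ 2 + c + 1) = 0 := by linear_combination h8
    rcases mul_eq_zero.1 h11 with h12 | h12
    · exact (he0 h12).elim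
    · exact h12

include hm in
/-- a subgroup which permutes `{∞, 0}`: its elements of odd order are in the torus -/
theorem mem_T_of_perm {x : Cfsg.Sz F m} (hx : Odd (orderOf x)) (h1 : x • inf F m = inf F m ∨ x • inf F m = zer F m)
    (h2 : x • zer F m = inf F m ∨ x • zer F m = zer F m) : x ∈ T hF := by
  have hsq : ∀ p : Cfsg.suzukiOvoid F m, (x * x) • p = p → x • p = p := by
    intro p hp
    obtain ⟨n, hn⟩ := hx
    have h3 : ∀ j : ℕ, (x * x) ^ j • p = p := by
      intro j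
      induction j with
      | zero => rw [pow_zero, one_smul]
      | succ j ih => rw [pow_succ, mul_smul, hp, ih]
    have h4 : (x * x) ^ (n + 1) = x := by
      have h5 : x ^ (2 * n + 1) = 1 := by rw [← hn]; exact pow_orderOf_eq_one x
      rw [← pow_two, ← pow_mul, show 2 * (n + 1) = (2 * n + 1) + 1 by ring, pow_succ, h5, one_mul]
    have := h3 (n + 1)
    rwa [h4] at this
  have hne : x • zer F m ≠ x • inf F m := fun e => zer_ne_inf (smul_left_cancel x e)
  have a1 : x • inf F m = inf F m := by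
    rcases h1 with h3 | h3
    · exact h3
    · apply hsq
      rw [mul_smul, h3]
      rcases h2 with h4 | h4
      · exact h4
      · exact (hne (by rw [h3, h4])).elim
  have a2 : x • zer F m = zer F m := by
    rcases h2 with h3 | h3
    · exact (hne (by rw [a1, h3])).elim
    · exact h3
  obtain ⟨k, hk⟩ := eq_h hm hF a1 a2
  exact ⟨k, hk.symm⟩

include hm in
/-- elements of odd order of `N(T)` are in `T` -/
theorem mem_T_of_normalizer {x : Cfsg.Sz F m} (hx : Odd (orderOf x)) (hN : ∀ t ∈ T hF, x⁻¹ * t * x ∈ T hF) :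
    x ∈ T hF := by
  obtain ⟨k, hk⟩ := exists_k hm hF
  have h1 : ∀ p : Cfsg.suzukiOvoid F m, (∀ t ∈ T hF, t • p = p) → x • p = inf F m ∨ x • p = zer F m := by
    intro p hp
    apply fix_h hF hk
    have h2 := hp _ (hN (h hF k) ⟨k, rfl⟩)
    rw [mul_smul, mul_smul, inv_smul_eq_iff] at h2
    exact h2
  apply mem_T_of_perm hm hF hx
  · apply h1
    rintro _ ⟨l, rfl⟩
    exact h_smul_inf hF l
  · apply h1
    rintro _ ⟨l, rfl⟩
    exact h_smul_zer hF l

/-- If `E` normalises `X` and no non-identity element of `E` centralises a non-identity element of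
`X`, then `|E|` divides `|X| - 1`. -/
theorem card_dvd_sub {G : Type*} [Group G] [Finite G] {E X : Subgroup G} (hn : ∀ w ∈ E, ∀ x ∈ X, w * x * w⁻¹ ∈ X)
    (hfree : ∀ w ∈ E, ∀ x ∈ X, x ≠ 1 → w * x = x * w → w = 1) : Nat.card E ∣ Nat.card X - 1 := by
  classical
  have := Fintype.ofFinite G
  let A := {x : G // x ∈ X ∧ x ≠ 1}
  let act : MulAction E A :=
    { smul := fun w x => ⟨w * x.1 * (w : G)⁻¹, hn w w.2 x.1 x.2.1, fun e => x.2.2 (conj_eq_one_iff.1 e)⟩
      one_smul := fun x => Subtype.ext (by show (1 : G) * x.1 * (1 : G)⁻¹ = x.1; group)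
      mul_smul := fun a b x => Subtype.ext (by
        show ((a : G) * b) * x.1 * ((a : G) * b)⁻¹ = a * (b * x.1 * (b : G)⁻¹) * (a : G)⁻¹
        group) }
  have h1 : Nat.card E ∣ Nat.card A := by
    apply Cfsg.Agent.H23.FreeAct.card_dvd_of_free
    intro d x hd
    have h2 : (d : G) * x.1 * (d : G)⁻¹ = x.1 := congrArg Subtype.val hd
    rw [mul_inv_eq_iff_eq_mul] at h2
    exact Subtype.ext (hfree d d.2 x.1 x.2.1 x.2.2 h2)
  have h2 : Nat.card X = Nat.card A + 1 := by
    have e : Option A ≃ X :=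
      { toFun := fun o => match o with
          | none => 1
          | some a => ⟨a.1, a.2.1⟩
        invFun := fun x => if h : (x : G) = 1 then none else some ⟨x.1, x.2, h⟩
        left_inv := by
          rintro (_ | a)
          · simp
          · have := a.2.2
            simp [this]
        right_inv := by
          intro x
          by_cases h : (x : G) = 1
          · simp only [h, dite_true]
            exact Subtype.ext h.symm
          · simp only [h, dite_false] }
    have : Finite A := Subtype.finite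
    rw [← Nat.card_congr e, Finite.card_option]
  rw [h2, Nat.add_sub_cancel]
  exact h1

theorem card_Sz_arith (hm : 1 ≤ m) {k : ℕ} (hkm : k < m) (hd : 2 * k + 1 ∣ 2 * m + 1)
    (h : 2 ^ (2 * m + 1) - 1 ∣ ((2 ^ (2 * k + 1)) ^ 2 + 1) * ((2 ^ (2 * k + 1)) ^ 2 * (2 ^ (2 * k + 1) - 1))) : False := by
  have h1 : 3 * (2 * k + 1) ≤ 2 * m + 1 := by
    obtain ⟨c, hc⟩ := hd
    have hc3 : 3 ≤ c := by
      by_contra hlt
      have : c = 0 ∨ c = 1 ∨ c = 2 := by omega
      rcases this with rfl | rfl | rfl <;> omega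
    calc 3 * (2 * k + 1) = (2 * k + 1) * 3 := by ring
      _ ≤ (2 * k + 1) * c := Nat.mul_le_mul_left _ hc3
      _ = _ := hc.symm
  have h2 : (2 ^ (2 * k + 1)) ^ 3 ≤ 2 ^ (2 * m + 1) := by
    rw [← pow_mul]
    exact Nat.pow_le_pow_right (by norm_num) (by omega)
  have hcop : Nat.Coprime (2 ^ (2 * m + 1) - 1) ((2 ^ (2 * k + 1)) ^ 2) := by
    rw [← pow_mul]
    apply Nat.Coprime.pow_right
    apply Nat.Coprime.symm
    rw [Nat.coprime_two_left]
    have : Even (2 ^ (2 * m + 1)) := (Nat.even_pow.2 ⟨even_two, by omega⟩)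
    exact Nat.Even.sub_odd Nat.one_le_two_pow this odd_one
  set s := 2 ^ (2 * k + 1) with hs
  have hs2 : 2 ≤ s := by
    calc 2 = 2 ^ 1 := rfl
      _ ≤ 2 ^ (2 * k + 1) := Nat.pow_le_pow_right (by norm_num) (by omega)
  have h3 : 2 ^ (2 * m + 1) - 1 ∣ (s ^ 2 + 1) * (s - 1) := by
    have e : (s ^ 2 + 1) * (s ^ 2 * (s - 1)) = s ^ 2 * ((s ^ 2 + 1) * (s - 1)) := by ring
    rw [e] at h
    exact hcop.dvd_of_dvd_mul_left h
  have h4 := Nat.le_of_dvd (by
    apply Nat.mul_pos
    · positivity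
    · omega) h3
  obtain ⟨r, hr⟩ : ∃ r, s = r + 1 := ⟨s - 1, by omega⟩
  rw [hr, Nat.add_sub_cancel] at h4
  rw [hr] at h2
  have h5 : (r + 1) ^ 3 - 1 ≤ ((r + 1) ^ 2 + 1) * r := by omega
  have h6 : (r + 1) ^ 3 = ((r + 1) ^ 2 + 1) * r + (r + 1) ^ 2 - r := by
    have : r ≤ (r + 1) ^ 2 := by nlinarith
    zify [le_trans this (Nat.le_add_left _ (((r + 1) ^ 2 + 1) * r))]
    ring
  have h7 : r + 1 < (r + 1) ^ 2 := by nlinarith
  omega

theorem hyp_ov : ∀ K : Subgroup (Cfsg.Sz F m), (r1 hm hF).T0 ≤ K → K ≠ ⊤ → K ≤ (r1 hm hF).B ∨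
    K ≤ cj (r1 hm hF).w (r1 hm hF).B ∨ ∀ φ : MulAut (Cfsg.Sz F m), (∀ x ∈ K, φ x ∈ K) → ∀ z ∈ T hF, φ z ∈ T hF := by
  intro K hK hKt
  rw [r1_T0] at hK
  have hfin := finite_ovoid F m
  have : Fact (Nat.Prime 2) := ⟨Nat.prime_two⟩
  have hoddT : ∀ z ∈ T hF, Odd (orderOf z) := by
    intro z hz
    have h1 : orderOf z ∣ Nat.card (T hF) := Subgroup.orderOf_dvd_natCard _ hz
    rw [card_T] at h1
    have h2 : Odd (2 ^ (2 * m + 1) - 1) := odd_of_mem (m := m) (Or.inl rfl)
    exact h2.of_dvd_nat h1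
  rcases Cfsg.Agent.S2251.result hm hF K hKt with ⟨P, hP⟩ | ⟨C, hC1, hC2, hC3⟩ | ⟨L, _, _, k, hk, hkm, hL, hd, S, ⟨e⟩, hKS⟩
  · obtain ⟨y, rfl⟩ := MulAction.exists_smul_eq (Cfsg.Sz F m) (sylowQ hm hF) P
    have hg : ∀ g ∈ K, g • (y • sylowQ hm hF) = y • sylowQ hm hF := by
      intro g hg
      rw [Sylow.smul_eq_iff_mem_normalizer]
      exact hP hg
    have hg' : ∀ g ∈ K, g • (y • inf F m) = y • inf F m := by
      intro g hgK
      have h1 := hg g hgK
      have h2 : (y⁻¹ * g * y) • sylowQ hm hF = sylowQ hm hF := by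
        rw [mul_smul, mul_smul, h1, inv_smul_smul]
      rw [smul_sylowQ_eq_iff, mul_smul, mul_smul, inv_smul_eq_iff] at h2
      exact h2
    rcases point_of_T hm hF (y := y) (fun k => hg _ (hK ⟨k, rfl⟩)) with hp | hp
    · left
      intro g hgK
      have := hg' g hgK
      rw [hp] at this
      exact this
    · right; left
      intro g hgK
      have := hg' g hgK
      rw [hp] at this
      exact (mem_cj_Bst hF).2 this
  · right; right
    have hCm : Nat.card C ∈ torusOrders m := hC2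
    have hTC : T hF = C := by
      by_cases hint : ∃ g, g ∈ T hF ∧ g ∈ C ∧ g ≠ 1
      · obtain ⟨g, hg1, hg2, hg3⟩ := hint
        have e1 := eq_centralizer hm hF hg3 hg2 hC1 hCm
        have e2 := eq_centralizer hm hF hg3 hg1 (isCyclic_T hF) (by rw [card_T]; exact Or.inl rfl)
        rw [e1, e2]
      · exfalso
        push Not at hint
        have h1 : Nat.card (T hF) ∣ Nat.card C - 1 := by
          apply card_dvd_sub
          · intro t ht c hc
            exact (Subgroup.mem_normalizer_iff.1 (hC3 (hK ht)) c).1 hc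
          · intro t ht c hc hc1 htc
            have e1 := eq_centralizer hm hF hc1 hc hC1 hCm
            apply hint t ht
            rw [e1, Subgroup.mem_centralizer_singleton_iff]
            exact htc
        rw [card_T] at h1
        have h8 : 2 ^ (m + 1) + 2 < 2 ^ (2 * m + 1) := by
          obtain ⟨n, rfl⟩ : ∃ n, m = n + 1 := ⟨m - 1, by omega⟩
          have e1 : 2 ^ (2 * (n + 1) + 1) = 2 ^ (n + 1) * 2 ^ (n + 2) := by
            rw [← pow_add]; congr 1; ring
          have e2 : 2 ^ (n + 1 + 1) = 2 ^ (n + 2) := rfl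
          have e3 : 2 ≤ 2 ^ (n + 1) := by
            calc 2 = 2 ^ 1 := rfl
              _ ≤ 2 ^ (n + 1) := Nat.pow_le_pow_right (by norm_num) (by omega)
          have e4 : 4 ≤ 2 ^ (n + 2) := by
            calc 4 = 2 ^ 2 := rfl
              _ ≤ 2 ^ (n + 2) := Nat.pow_le_pow_right (by norm_num) (by omega)
          rw [e1, e2]
          nlinarith
        rw [mem_torusOrders_iff] at hCm
        generalize 2 ^ (2 * m + 1) = q at h1 h8 hCm
        generalize hr : 2 ^ (m + 1) = r at h1 h8 hCm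
        rcases hCm with h2 | h2 | h2
        · rw [h2] at h1
          have := Nat.le_of_dvd (by omega) h1
          omega
        · rw [h2] at h1
          have h3 : q + r + 1 - 1 = (q - 1) + (r + 1) := by omega
          rw [h3] at h1
          have h4 := (Nat.dvd_add_right (dvd_refl _)).1 h1
          have := Nat.le_of_dvd (by omega) h4
          omega
        · rw [h2] at h1
          have h0 : 1 ≤ r := by rw [← hr]; exact Nat.one_le_two_pow
          have := Nat.le_of_dvd (by omega) h1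
          omega
    intro φ hφ z hz
    have h1 : φ z ∈ K := hφ z (hK hz)
    apply mem_T_of_normalizer hm hF
    · rw [MulEquiv.orderOf_eq]
      exact hoddT z hz
    · intro t ht
      have h2 := hC3 h1
      rw [← hTC] at h2
      have h3 := (Subgroup.mem_normalizer_iff.1 (Subgroup.inv_mem _ h2) t).1 ht
      rwa [inv_inv] at h3
  · exfalso
    have hTS : T hF ≤ S := hK.trans hKS
    have h1 : Nat.card (T hF) ∣ Nat.card S := Subgroup.card_dvd_of_le hTS
    rw [card_T, Nat.card_congr e.toEquiv, card_Sz hk hL] at h1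
    exact card_Sz_arith hm hkm hd h1

/-- **helper470's hypotheses hold for the Suzuki groups** -/
theorem hyp : (r1 hm hF).Hyp where
  comm := hyp_comm hm hF
  p2 := fun _ => hyp_p2 hm hF
  inv := fun _ => hyp_inv hm hF
  ov := by
    have hfin := finite_ovoid F m
    apply (r1 hm hF).ov_of (T hF)
    · intro h1
      have h2 := card_T (m := m) hF
      rw [h1, Subgroup.card_bot] at h2
      have h8 := eight_le hm hF
      rw [hF] at h8
      omega
    · intro h1
      have h2 : u hF 1 0 ∈ T hF := by rw [h1]; exact Subgroup.mem_top _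
      obtain ⟨k, hk⟩ := h2
      have h3 : u hF 1 0 • zer F m = zer F m := by
        rw [← hk]; exact h_smul_zer hF k
      exact zer_ne_inf (u_fix hF (fun h4 => one_ne_zero h4.1) h3)
    · intro φ hφ z hz
      rw [r1_T0] at hφ
      exact hφ z hz
    · exact hyp_ov hm hF

end

end Cfsg.Agent.H451.EPX
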